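import Mathlib
import Cfsg.Agent.Lib.Helper42.LW48.Defs

/-!
# LW48 (S0748): package [K5CF]

An element of odd order commuting with an involution `v ≠ 1` of `G` fixes every fixed point of
`v`, when no involution of `G` fixes three points.
-/

set_option autoImplicit false

namespace Cfsg.Agent.Lib.Helper10.LW48

open Cfsg.Agent.Lib.Helper75.LW Cfsg.Agent.Lib.Helper42.LW48

universe u

/-- **[K5CF]** -/
theorem pkgK5CF : PkgK5CF.{u} := by
  intro α _ _ G v κ e hno hvG hvv hv1 hodd hcomm hve
  by_contra hκe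
  have hcomm' : ∀ a, v (κ a) = κ (v a) := fun a => by
    have h := congrArg (fun f : Equiv.Perm α => f a) hcomm
    simpa [Equiv.Perm.mul_apply] using h
  have h1 : κ (κ e) ≠ κ e := fun h => hκe (κ.injective h)
  have h2 : κ (κ e) ≠ e := by
    intro h
    obtain ⟨j, hj⟩ := hodd
    have hpow : ∀ i : ℕ, (κ ^ (2 * i)) e = e := by
      intro i
      induction i with
      | zero => simp
      | succ i ih =>
        rw [show 2 * (i + 1) = 2 * i + 2 by ring, pow_add, Equiv.Perm.mul_apply, pow_two,
          Equiv.Perm.mul_apply, h, ih]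
    have h3 : (κ ^ orderOf κ) e = e := by
      rw [pow_orderOf_eq_one]; rfl
    rw [hj, pow_succ', Equiv.Perm.mul_apply, hpow j] at h3
    exact hκe h3
  have hs : ({e, κ e, κ (κ e)} : Finset α).card = 3 :=
    Finset.card_eq_three.2 ⟨e, κ e, κ (κ e), Ne.symm hκe, Ne.symm h2, Ne.symm h1, rfl⟩
  apply hv1
  apply hno _ hs v hvG hvv
  intro a ha
  simp only [Finset.mem_insert, Finset.mem_singleton] at ha
  rcases ha with rfl | rfl | rfl
  · exact hve
  · rw [hcomm', hve]
  · rw [hcomm', hcomm', hve]

end Cfsg.Agent.Lib.Helper10.LW48
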