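import Mathlib
import Cfsg.Agent.Lib.Helper42.LW48.Defs

/-!
# LW48 (S0748): package [K5FIX]

If every even permutation of every `5`-set is induced by `G`, there is an element of `G` acting as
`(a b)(c d)` and fixing `y`.
-/

set_option autoImplicit false

namespace Cfsg.Agent.Lib.Helper10.LW48

open Cfsg.Agent.Lib.Helper75.LW Cfsg.Agent.Lib.Helper42.LW48

universe u

/-- **[K5FIX]** -/
theorem pkgK5Fix : PkgK5Fix.{u} := by
  intro α _ _ G hAlt a b c d y hab hac had hay hbc hbd hby hcd hcy hdy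
  classical
  obtain ⟨D, hD⟩ : ∃ D : Finset α, D = {a, b, c, d, y} := ⟨_, rfl⟩
  have haD : a ∈ D := by simp [hD]
  have hbD : b ∈ D := by simp [hD]
  have hcD : c ∈ D := by simp [hD]
  have hdD : d ∈ D := by simp [hD]
  have hyD : y ∈ D := by simp [hD]
  have hcard : D.card = 5 := by
    rw [hD, Finset.card_insert_of_notMem (by simp [hab, hac, had, hay]),
      Finset.card_insert_of_notMem (by simp [hbc, hbd, hby]),
      Finset.card_insert_of_notMem (by simp [hcd, hcy]),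
      Finset.card_insert_of_notMem (by simp [hdy]), Finset.card_singleton]
  have ne : ∀ (u v : α) (hu : u ∈ D) (hv : v ∈ D), u ≠ v → (⟨u, hu⟩ : ↥D) ≠ ⟨v, hv⟩ :=
    fun u v hu hv h h' => h (congrArg Subtype.val h')
  obtain ⟨σ, hσdef⟩ : ∃ σ : Equiv.Perm ↥D,
      σ = Equiv.swap ⟨a, haD⟩ ⟨b, hbD⟩ * Equiv.swap ⟨c, hcD⟩ ⟨d, hdD⟩ := ⟨_, rfl⟩
  have hσ : σ ∈ alternatingGroup ↥D := by
    rw [Equiv.Perm.mem_alternatingGroup, hσdef, Equiv.Perm.sign_mul,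
      Equiv.Perm.sign_swap (ne a b haD hbD hab), Equiv.Perm.sign_swap (ne c d hcD hdD hcd)]
    rfl
  have e1 : σ ⟨a, haD⟩ = ⟨b, hbD⟩ := by
    rw [hσdef, Equiv.Perm.mul_apply,
      Equiv.swap_apply_of_ne_of_ne (ne a c haD hcD hac) (ne a d haD hdD had),
      Equiv.swap_apply_left]
  have e2 : σ ⟨b, hbD⟩ = ⟨a, haD⟩ := by
    rw [hσdef, Equiv.Perm.mul_apply,
      Equiv.swap_apply_of_ne_of_ne (ne b c hbD hcD hbc) (ne b d hbD hdD hbd),
      Equiv.swap_apply_right]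
  have e3 : σ ⟨c, hcD⟩ = ⟨d, hdD⟩ := by
    rw [hσdef, Equiv.Perm.mul_apply, Equiv.swap_apply_left,
      Equiv.swap_apply_of_ne_of_ne (ne d a hdD haD (Ne.symm had)) (ne d b hdD hbD (Ne.symm hbd))]
  have e4 : σ ⟨d, hdD⟩ = ⟨c, hcD⟩ := by
    rw [hσdef, Equiv.Perm.mul_apply, Equiv.swap_apply_right,
      Equiv.swap_apply_of_ne_of_ne (ne c a hcD haD (Ne.symm hac)) (ne c b hcD hbD (Ne.symm hbc))]
  have e5 : σ ⟨y, hyD⟩ = ⟨y, hyD⟩ := by
    rw [hσdef, Equiv.Perm.mul_apply,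
      Equiv.swap_apply_of_ne_of_ne (ne y c hyD hcD (Ne.symm hcy)) (ne y d hyD hdD (Ne.symm hdy)),
      Equiv.swap_apply_of_ne_of_ne (ne y a hyD haD (Ne.symm hay)) (ne y b hyD hbD (Ne.symm hby))]
  obtain ⟨g, hg, hgσ⟩ := hAlt D hcard σ hσ
  refine ⟨g, hg, ?_, ?_, ?_, ?_, ?_⟩
  · have h := hgσ ⟨a, haD⟩
    rw [e1] at h
    exact h
  · have h := hgσ ⟨b, hbD⟩
    rw [e2] at h
    exact h
  · have h := hgσ ⟨c, hcD⟩
    rw [e3] at h
    exact h
  · have h := hgσ ⟨d, hdD⟩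
    rw [e4] at h
    exact h
  · have h := hgσ ⟨y, hyD⟩
    rw [e5] at h
    exact h

end Cfsg.Agent.Lib.Helper10.LW48
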