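import Mathlib
import Cfsg.Agent.Lib.Helper42.LW48.Defs

/-!
# LW48 (S0748): package [K5NOINV]

If `G` induces no odd permutation on a `5`-set, then no involution of `G` fixes three points.
-/

set_option autoImplicit false

namespace Cfsg.Agent.Lib.Helper10.LW48

open Cfsg.Agent.Lib.Helper75.LW Cfsg.Agent.Lib.Helper42.LW48

universe u

/-- **[K5NOINV]** -/
theorem pkgK5NoInv : PkgK5NoInv.{u} := by
  intro hInvSet hSign α _ _ G hnot s hs t htG htt hfix
  by_contra ht1
  -- a moved point
  obtain ⟨a, ha⟩ : ∃ a, t a ≠ a := by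
    by_contra hcon
    apply ht1
    ext b
    by_contra hb
    exact hcon ⟨b, hb⟩
  have hinv : ∀ b, t (t b) = b := fun b => by
    have h := congrArg (fun f : Equiv.Perm α => f b) htt
    simpa [Equiv.Perm.mul_apply] using h
  have hmoved : 2 * 1 ≤ (Finset.univ.filter (fun b => t b ≠ b)).card := by
    have hsub : ({a, t a} : Finset α) ⊆ Finset.univ.filter (fun b => t b ≠ b) := by
      intro b hb
      rw [Finset.mem_insert, Finset.mem_singleton] at hb
      rw [Finset.mem_filter]
      refine ⟨Finset.mem_univ _, ?_⟩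
      rcases hb with rfl | rfl
      · exact ha
      · rw [hinv]; exact fun h => ha h.symm
    have hc : ({a, t a} : Finset α).card = 2 := Finset.card_pair (fun h => ha h.symm)
    have := Finset.card_le_card hsub
    omega
  have hfixed : 5 ≤ 2 * 1 + (Finset.univ.filter (fun b => t b = b)).card := by
    have hsub : s ⊆ Finset.univ.filter (fun b => t b = b) := by
      intro b hb
      rw [Finset.mem_filter]
      exact ⟨Finset.mem_univ _, hfix b hb⟩
    have := Finset.card_le_card hsub
    omega
  obtain ⟨D, hD, hDinv, hDmov⟩ := hInvSet t 5 1 htt (by norm_num) hmoved hfixed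
  obtain ⟨σ, hσ, hσt⟩ := hSign t D 1 htt hDinv odd_one hDmov
  exact hnot ⟨D, hD, σ, hσ, t, htG, hσt⟩

end Cfsg.Agent.Lib.Helper10.LW48
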