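import Mathlib
import Cfsg.Agent.Lib.Helper42.LW48.Defs

/-!
# LW48 (S0748): package [K5ODD]

If no involution of `G` fixes three points, the pointwise stabiliser of a set with at least three
points has odd order.
-/

set_option autoImplicit false

namespace Cfsg.Agent.Lib.Helper10.LW48

open Cfsg.Agent.Lib.Helper75.LW Cfsg.Agent.Lib.Helper42.LW48

universe u

/-- **[K5ODD]** -/
theorem pkgK5Odd : PkgK5Odd.{u} := by
  intro α _ _ G s hs hno
  by_contra hodd
  have heven : 2 ∣ Nat.card (PS G s) := by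
    rw [Nat.not_odd_iff_even] at hodd
    exact hodd.two_dvd
  have : Fact (Nat.Prime 2) := ⟨Nat.prime_two⟩
  obtain ⟨x, hx⟩ := exists_prime_orderOf_dvd_card' 2 heven
  obtain ⟨s', hs's, hs'c⟩ := Finset.exists_subset_card_eq hs
  have hxG : (x : Equiv.Perm α) ∈ G := x.2.1
  have hxfix : ∀ a ∈ s, (x : Equiv.Perm α) a = a := x.2.2
  have hxx : (x : Equiv.Perm α) * (x : Equiv.Perm α) = 1 := by
    have h1 : x ^ 2 = 1 := by rw [← hx]; exact pow_orderOf_eq_one x
    have h2 := congrArg (fun z : ↥(PS G s) => (z : Equiv.Perm α)) h1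
    simpa [pow_two] using h2
  have h1 : (x : Equiv.Perm α) = 1 :=
    hno s' hs'c _ hxG hxx (fun a ha => hxfix a (hs's ha))
  have h2 : x = 1 := Subtype.ext h1
  rw [h2, orderOf_one] at hx
  omega

end Cfsg.Agent.Lib.Helper10.LW48
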