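import Mathlib
import Cfsg.Agent.Lib.Helper42.LW48.Defs

/-!
# LW48 (S0748): package [K5ORB]

A four-group acting on an orbit of a group of odd order has a fixed point there.
-/

set_option autoImplicit false

namespace Cfsg.Agent.Lib.Helper10.LW48

open Cfsg.Agent.Lib.Helper75.LW Cfsg.Agent.Lib.Helper42.LW48

universe u

/-- a fixed-point-free involution of a finite set: the set has even cardinality -/
theorem even_card_of_invol {α : Type u} [DecidableEq α] (S : Finset α) (f : α → α)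
    (hmem : ∀ a ∈ S, f a ∈ S) (hinv : ∀ a ∈ S, f (f a) = a) (hnofix : ∀ a ∈ S, f a ≠ a) :
    Even S.card := by
  have h : ∑ _x ∈ S, (1 : ZMod 2) = 0 :=
    Finset.sum_involution (fun a _ => f a) (fun _ _ => by decide) (fun a ha _ => hnofix a ha)
      hmem hinv
  rw [Finset.sum_const, nsmul_eq_mul, mul_one] at h
  exact (ZMod.natCast_eq_zero_iff_even).1 h

/-- **[K5ORB]** -/
theorem pkgK5Orb : PkgK5Orb.{u} := by
  intro α _ _ K v₁ v₂ y hodd h11 h22 hcomm hv1 hv2
  classical
  obtain ⟨O, hO⟩ : ∃ O : Finset α, O = Finset.univ.filter (fun o => ∃ κ ∈ K, κ y = o) := ⟨_, rfl⟩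
  have hmemO : ∀ o, o ∈ O ↔ ∃ κ ∈ K, κ y = o := by
    intro o; rw [hO]; simp
  have hOset : (↑O : Set α) = MulAction.orbit ↥K y := by
    ext o
    rw [Finset.mem_coe, hmemO, MulAction.mem_orbit_iff]
    constructor
    · rintro ⟨κ, hκ, rfl⟩
      exact ⟨⟨κ, hκ⟩, rfl⟩
    · rintro ⟨κ, rfl⟩
      exact ⟨κ.1, κ.2, rfl⟩
  have hOodd : Odd O.card := by
    have h1 : (MulAction.orbit ↥K y).ncard ∣ Nat.card K := by
      rw [← MulAction.index_stabilizer]
      exact Subgroup.index_dvd_card _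
    rw [← Set.ncard_coe_finset, hOset]
    exact Odd.of_dvd_nat hodd h1
  have hinv1 : ∀ a, v₁ (v₁ a) = a := fun a => by
    have h := congrArg (fun f : Equiv.Perm α => f a) h11
    simpa [Equiv.Perm.mul_apply] using h
  have hinv2 : ∀ a, v₂ (v₂ a) = a := fun a => by
    have h := congrArg (fun f : Equiv.Perm α => f a) h22
    simpa [Equiv.Perm.mul_apply] using h
  have hc : ∀ a, v₁ (v₂ a) = v₂ (v₁ a) := fun a => by
    have h := congrArg (fun f : Equiv.Perm α => f a) hcomm
    simpa [Equiv.Perm.mul_apply] using h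
  have hO1 : ∀ a ∈ O, v₁ a ∈ O := by
    intro a ha
    obtain ⟨κ, hκ, rfl⟩ := (hmemO a).1 ha
    obtain ⟨κ', hκ', h⟩ := hv1 κ hκ
    exact (hmemO _).2 ⟨κ', hκ', h.symm⟩
  have hO2 : ∀ a ∈ O, v₂ a ∈ O := by
    intro a ha
    obtain ⟨κ, hκ, rfl⟩ := (hmemO a).1 ha
    obtain ⟨κ', hκ', h⟩ := hv2 κ hκ
    exact (hmemO _).2 ⟨κ', hκ', h.symm⟩
  -- the fixed points of `v₁` in `O`
  have hF1odd : Odd (O.filter (fun o => v₁ o = o)).card := by
    have heven : Even (O.filter (fun o => ¬ v₁ o = o)).card := by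
      apply even_card_of_invol _ (fun a => v₁ a)
      · intro a ha
        rw [Finset.mem_filter] at ha ⊢
        refine ⟨hO1 a ha.1, ?_⟩
        rw [hinv1]
        exact fun h => ha.2 h.symm
      · intro a _
        exact hinv1 a
      · intro a ha
        exact (Finset.mem_filter.1 ha).2
    have hsum := Finset.card_filter_add_card_filter_not (s := O) (fun o => v₁ o = o)
    rcases hOodd with ⟨m, hm⟩
    rcases heven with ⟨l, hl⟩
    exact ⟨m - l, by omega⟩
  -- `v₂` has a fixed point there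
  have hex : ∃ a ∈ O.filter (fun o => v₁ o = o), v₂ a = a := by
    by_contra hcon
    have heven : Even (O.filter (fun o => v₁ o = o)).card := by
      apply even_card_of_invol _ (fun a => v₂ a)
      · intro a ha
        rw [Finset.mem_filter] at ha ⊢
        refine ⟨hO2 a ha.1, ?_⟩
        rw [hc, ha.2]
      · intro a _
        exact hinv2 a
      · intro a ha h
        exact hcon ⟨a, ha, h⟩
    exact (Nat.not_even_iff_odd.2 hF1odd) heven
  obtain ⟨a, ha, ha2⟩ := hex
  rw [Finset.mem_filter] at ha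
  obtain ⟨κ₀, hκ₀, rfl⟩ := (hmemO a).1 ha.1
  exact ⟨κ₀, hκ₀, ha.2, ha2⟩

end Cfsg.Agent.Lib.Helper10.LW48
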